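import Cfsg.Agent.H882.O11.Cross
import Cfsg.Agent.H218.ElevOmT

/-!
# `Ω₁₁(q)`: S5860 from the two halves (helper882)
-/

set_option autoImplicit false

namespace Cfsg.Agent.H882.O11

open Matrix Cfsg Cfsg.Geo Cfsg.Agent.H915.LD

universe u

/-- the conclusion of S5860 -/
def Concl {ι : Type} [Fintype ι] [DecidableEq ι] {F : Type u} [Field F] [Fintype F] (p : ℕ)
    (P : Subgroup (GL ι F)) : Prop :=
  (Nonempty (Soc P ≃* ProjectiveSpecialLinearGroup (Fin 3) (ZMod 3)) ∧ Fintype.card F = 13) ∨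
  (Nonempty (Soc P ≃* alternatingGroup (Fin 12)) ∧ Fintype.card F = p ∧ 5 ≤ p ∧ p ≠ 13) ∨
  (Nonempty (Soc P ≃* alternatingGroup (Fin 13)) ∧ Fintype.card F = 13) ∨
  (Nonempty (Soc P ≃* ProjectiveSpecialLinearGroup (Fin 2) F) ∧ 11 ≤ p ∧ Fintype.card F ≠ 11)

/-- **S5860.** -/
theorem final (hk : ∀ (T : Type u) [Group T] [Finite T], IsSimpleGroup T → IsKnownSimple' T)
    {F : Type u} [Field F] [Fintype F] (hodd : Odd (Fintype.card F)) (H : Subgroup (GL (Unit ⊕ (Fin 5 ⊕ Fin 5)) F))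
    (hH : IsMaximalIn (omegaGL (quadFormOdd 5 F)) H) (hS : InOrthogonalResidualClass H) :
    ∃ (P : Subgroup (GL (Unit ⊕ (Fin 5 ⊕ Fin 5)) F)) (p : ℕ), IsResidualCore H P ∧ p.Prime ∧ CharP F p ∧
      Concl p P := by
  obtain ⟨P, hP, -⟩ := hS
  obtain ⟨p, hch⟩ := CharP.exists F
  have hp : p.Prime := CharP.char_is_prime F p
  have h2 : (2 : F) ≠ 0 := by
    intro h0
    have h1 : ((2 : ℕ) : F) = 0 := by exact_mod_cast h0
    rw [CharP.cast_eq_zero_iff F p] at h1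
    obtain rfl : p = 2 := (Nat.prime_dvd_prime_iff_eq hp Nat.prime_two).1 h1
    have := Fact.mk hp
    obtain ⟨k, -, hk⟩ := FiniteField.card F 2
    rw [hk, Nat.odd_iff] at hodd
    have : 2 ∣ 2 ^ (k : ℕ) := dvd_pow_self 2 k.ne_zero
    omega
  refine ⟨P, p, hP, hp, hch, ?_⟩
  by_cases hL : IsLieTypeChar p (Soc P)
  · have := Fact.mk hp
    exact Or.inr (Or.inr (Or.inr (H218.ElevOm.own_main hodd p hH hP hL)))
  · obtain ⟨Q, hQ, hQn⟩ := H883.Bridge.exists_quadraticForm (H883.Bridge.isNondegenerateQuadraticForm_odd hodd 5)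
    rw [← hQ] at hH
    have c : Ctx p Q H P := ⟨hp, hch, h2, by simp, hQn, hH, hP⟩
    rcases cross c hk hL with h | h | h
    · exact Or.inl h
    · exact Or.inr (Or.inl h)
    · exact Or.inr (Or.inr (Or.inl h))

end Cfsg.Agent.H882.O11
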