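import Cfsg.Agent.H882.O11.Ctx
import Cfsg.Agent.H114.AltNorm
import Cfsg.Agent.H614.AMod.Main
import Cfsg.Agent.H906.Trace

/-!
# `Ω₁₁(q)`: the socles `A_m`, `m ≥ 8` (helper882)
-/

set_option autoImplicit false
set_option linter.unusedSectionVars false

namespace Cfsg.Agent.H882.O11

open Module Matrix Cfsg Cfsg.Geo Cfsg.Agent.H915.LD Cfsg.Agent.LieClassical.OrthCore Cfsg.Agent.H114.AltNat

universe u v

variable {ι : Type} [Fintype ι] [DecidableEq ι] {F : Type u} [Field F] [Fintype F] {p : ℕ}
  {Q : QuadraticForm F (ι → F)} {H P : Subgroup (GL ι F)}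

/-- the module of H964 -/
theorem natM_of {m : ℕ} {φ : P ≃* alternatingGroup (Fin m)} {w : Fin m → Fin m → ι → F}
    (hw : H964.AltMod.NatM (H964.AltMod.rep φ) w) : NatM (Cfsg.Agent.H114.AltNat.rep (th φ.symm)) w where
  anti := hw.anti
  add := hw.tri
  equiv := fun g i j => by
    have h1 := hw.act g i j
    rw [H964.AltMod.rep_apply] at h1
    exact h1
  span := hw.span
  ne := hw.ne

/-- **`A_m`, `m ≥ 8`.** -/
theorem row_alt (c : Ctx p Q H P) {m : ℕ} (hm : 8 ≤ m) (e : Soc P ≃* alternatingGroup (Fin m)) :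
    (m = 12 ∧ Fintype.card F = p ∧ 5 ≤ p ∧ p ≠ 13) ∨ (m = 13 ∧ Fintype.card F = 13) := by
  have hpF := Fact.mk c.prime
  have := c.charP
  have hC := c.core
  have hcard := c.eleven
  rcases H614.AMod.Main.alt_cases hC p e hm (by rw [hcard]; norm_num) (fun h => c.ne_two h.2) with hN | hN | hN
  · have hd := hN.dim hC hm p
    rw [hcard] at hd
    obtain ⟨φ, -, w, hw⟩ := hN
    have hF : Fintype.card F = p := H964.AltMod.card_eq hC (by rwa [Fintype.card_fin]) hw p
    have hM := natM_of hw
    have hspan : Submodule.span F (Set.range fun g => (th φ.symm g : Matrix ι ι F)) = ⊤ := by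
      rw [← H906.span_subtype hC.absIrred]
      congr 1
      ext M
      constructor
      · rintro ⟨g, rfl⟩
        exact ⟨φ.symm g, rfl⟩
      · rintro ⟨x, rfl⟩
        exact ⟨φ x, by simp only [th_apply, MulEquiv.symm_apply_apply]; rfl⟩
    rcases hd with ⟨hpm, hm12⟩ | ⟨hpm, hm13⟩
    · -- `A_12`
      have hm' : m = 12 := by omega
      subst hm'
      have hp2 : p ≠ 2 := fun h3 => hpm (by rw [h3]; norm_num)
      have hp3 : p ≠ 3 := fun h3 => hpm (by rw [h3]; norm_num)
      have hp4 : p ≠ 4 := by rintro rfl; exact absurd c.prime (by norm_num)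
      have hp5 : 5 ≤ p := by
        have := c.prime.two_le
        omega
      refine Or.inl ⟨rfl, hF, hp5, ?_⟩
      rintro rfl
      have h3F : (3 : F) ≠ 0 := by
        have : ((3 : ℕ) : F) ≠ 0 := by
          rw [ne_eq, CharP.cast_eq_zero_iff F 13]
          norm_num
        exact_mod_cast this
      refine not_maximal_of_dvd c.two h3F (by norm_num) φ.symm hspan hM (by rw [hcard]) ?_ ?_
        (H883.Bridge.isNondegenerateQuadraticForm c.nd) c.max c.res.le c.res.normal
      · rw [ne_eq, CharP.cast_eq_zero_iff F 13]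
        norm_num
      · have h14 : ((13 : ℕ) : F) = 0 := by
          rw [CharP.cast_eq_zero_iff F 13]
        have h15 : ((12 : ℕ) : F) + 1 = ((13 : ℕ) : F) := by push_cast; norm_num
        rw [h15, h14]
    · -- `A_13`
      have hm' : m = 13 := by omega
      subst hm'
      have hp13 : p = 13 := (Nat.prime_dvd_prime_iff_eq c.prime (by norm_num)).1 hpm
      exact Or.inr ⟨rfl, by rw [hF, hp13]⟩
  · have := hN.n8
    rw [hcard] at this
    omega
  · have := hN.1
    rw [hcard] at this
    omega

end Cfsg.Agent.H882.O11
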