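import Cfsg.Agent.H882.O11.Alt
import Cfsg.Agent.H882.Sc.Cores
import Cfsg.Agent.H936.List12b
import Cfsg.Agent.H175.LD.Core33
import Cfsg.Agent.H659.U3Stage
import Cfsg.Agent.H659.Sp4Stage
import Cfsg.Agent.H36.U52.Main
import Cfsg.Agent.H916.SpSixK
import Cfsg.Agent.H916.OmD
import Cfsg.Agent.H814.SzEightCore
import Cfsg.Agent.H6.M11.Main11
import Cfsg.Agent.H921.SporMore
import Cfsg.Agent.H921.SporJ2
import Cfsg.Agent.H921.SporJ3
import Cfsg.Agent.H921.SporSuz
import Cfsg.Agent.H363.PslCard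
import Cfsg.Agent.CpQuot.Congr

/-!
# `Ω₁₁(q)`: the cross characteristic part (helper882)

`cross` : the socle is a known simple group, not of Lie type in characteristic `p` : then it is `L₃(3)` (`q = 13`),
`A₁₂` (`q = p ≥ 5`, `p ≠ 13`) or `A₁₃` (`q = 13`).
-/

set_option autoImplicit false
set_option linter.unusedSectionVars false

namespace Cfsg.Agent.H882.O11

open Module Matrix Cfsg Cfsg.Geo Cfsg.Agent.H915.LD Cfsg.Agent.LieClassical.OrthCore Cfsg.Agent.H936.List12
  Cfsg.Agent.H912.Bd Cfsg.Agent.H912.Five Cfsg.Agent.H921.Spor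

universe u v

/-- the conclusion of S5860 in cross characteristic -/
def ConclX {ι : Type} [Fintype ι] [DecidableEq ι] {F : Type u} [Field F] [Fintype F] (p : ℕ)
    (P : Subgroup (GL ι F)) : Prop :=
  (Nonempty (Soc P ≃* ProjectiveSpecialLinearGroup (Fin 3) (ZMod 3)) ∧ Fintype.card F = 13) ∨
  (Nonempty (Soc P ≃* alternatingGroup (Fin 12)) ∧ Fintype.card F = p ∧ 5 ≤ p ∧ p ≠ 13) ∨
  (Nonempty (Soc P ≃* alternatingGroup (Fin 13)) ∧ Fintype.card F = 13)

/-- a field with two elements -/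
theorem zero_one {K : Type v} [Field K] [Fintype K] (hK : Fintype.card K = 2) (x : K) : x = 0 ∨ x = 1 := by
  classical
  by_contra hx
  push Not at hx
  have : ({0, 1, x} : Finset K).card ≤ Fintype.card K := Finset.card_le_univ _
  rw [Finset.card_insert_of_notMem, Finset.card_insert_of_notMem, Finset.card_singleton, hK] at this
  · omega
  · simp only [Finset.mem_singleton]; exact fun h => hx.2 h.symm
  · simp only [Finset.mem_insert, Finset.mem_singleton, not_or]; exact ⟨zero_ne_one, fun h => hx.1 h.symm⟩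

section copy

variable {F : Type u} [Field F] [Fintype F] {p : ℕ} {P : Subgroup (GL (Fin 11) F)}

theorem Gp.three (g : Gp p P) (h3 : p ≠ 3) : (3 : F) ≠ 0 := by
  have := g.charP
  have := Fact.mk g.prime
  have h : ((3 : ℕ) : F) ≠ 0 := cast_ne (p := p) Nat.prime_three (fun h => h3 h.symm)
  exact_mod_cast h

/-- many involutions -/
theorem Gp.no_orb (g : Gp p P) {T : Type v} [Group T] (e : Soc P ≃* T) {m : ℕ} (h : Orb 2 m T) (hm : 12 ≤ m) : False := by
  have h2 : ((2 : ℕ) : F) ≠ 0 := by exact_mod_cast g.two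
  have h1 : PR F 11 2 T := PR.of_scalars P e (by rw [g.bot]; simp)
  have := h.bd (F := F) Nat.prime_two h2 11 h1
  omega

/-- the remaining sporadic groups -/
theorem Gp.spor (g : Gp p P) (h : SporC (Soc P)) :
    Spor.IsoM11 (Soc P) ∨ Spor.IsoM12 (Soc P) ∨ Spor.IsoJ1 (Soc P) := by
  rcases h with h | h | h | h | h | h | h | h | h
  · exact Or.inl h
  · exact Or.inr (Or.inl h)
  · obtain ⟨e⟩ := h
    exact (g.no_orb e M24.M22_two (by norm_num)).elim
  · obtain ⟨e⟩ := h
    exact (g.no_orb e (M24.M23_two.orb (by norm_num)) (by norm_num)).elim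
  · obtain ⟨e⟩ := h
    exact (g.no_orb e (M24.M24_two.orb (by norm_num)) (by norm_num)).elim
  · exact Or.inr (Or.inr h)
  · obtain ⟨e⟩ := h
    exact (g.no_orb e J2.J2_two (by norm_num)).elim
  · obtain ⟨K, _, _, ω, hF, hω, ⟨e⟩⟩ := h
    have H := Cfsg.Agent.J3.Core.good_of_card hF hω
    exact (g.no_orb e (J3.J3_two hF H) (by norm_num)).elim
  · obtain ⟨e⟩ := h
    exact (g.no_orb e Suz.Suz_two (by norm_num)).elim

end copy

variable {ι : Type} [Fintype ι] [DecidableEq ι] {F : Type u} [Field F] [Fintype F] {p : ℕ}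
  {Q : QuadraticForm F (ι → F)} {H P : Subgroup (GL ι F)}

theorem Ctx.three (c : Ctx p Q H P) (h3 : p ≠ 3) : (3 : F) ≠ 0 := by
  have := c.charP
  have := Fact.mk c.prime
  have h : ((3 : ℕ) : F) ≠ 0 := cast_ne (p := p) Nat.prime_three (fun h => h3 h.symm)
  exact_mod_cast h

/-- `A₅`, `A₆`, `A₇` -/
theorem row_small (c : Ctx p Q H P) (hL : ¬ IsLieTypeChar p (Soc P)) {m : ℕ} (h5 : 5 ≤ m) (h7 : m ≤ 7)
    (e : Soc P ≃* alternatingGroup (Fin m)) : False := by
  have hp := Fact.mk c.prime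
  have hch := c.charP
  have hn := c.eleven
  rcases (show m = 5 ∨ m = 6 ∨ m = 7 by omega) with rfl | rfl | rfl
  · have hp5 : p ≠ 5 := by
      rintro rfl
      obtain ⟨f⟩ := Cfsg.Agent.S0253.result (F := ZMod 5) (ZMod.card 5)
      exact hL (lie_of_isL (m := 2) (q := 5) hp.out dvd_rfl le_rfl (fun _ => by norm_num)
        ⟨ZMod 5, inferInstance, inferInstance, ZMod.card 5, ⟨e.trans f.symm⟩⟩)
    have := H937.T2.a5_dims p c.core e hp5
    rw [hn] at this
    exact absurd this (by decide)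
  · have hp3 : p ≠ 3 := by
      rintro rfl
      obtain ⟨K, iK, iKf, hK, -, ⟨f⟩⟩ := H937.T2.exists_nine e
      exact hL (lie_of_isL (m := 2) (q := 9) hp.out (by norm_num) le_rfl (fun _ => by norm_num)
        ⟨K, iK, iKf, hK, ⟨f⟩⟩)
    have := H937.T2.a6_dims p c.core e (by rw [c.bot]; simp) hp3
    rw [hn] at this
    exact absurd this (by decide)
  · exact Sc.a7_eleven c.core c.two c.fixQ hn e

/-- **Cross characteristic.** -/
theorem cross (c : Ctx p Q H P) (hk : ∀ (T : Type u) [Group T] [Finite T], IsSimpleGroup T → IsKnownSimple' T)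
    (hL : ¬ IsLieTypeChar p (Soc P)) : ConclX p P := by
  have hp := Fact.mk c.prime
  have hch := c.charP
  have hn := c.eleven
  obtain ⟨P', g, ⟨s⟩⟩ := c.cop
  have hs : IsSimpleGroup (Soc P') := g.core.simple
  have hL' : ¬ IsLieTypeChar p (Soc P') := fun h => hL ((CpQuot.Congr.isLieTypeChar_iff s p).2 h)
  have hodd : ¬ 2 ∣ 11 := by decide
  rcases list₁ (by norm_num) g.core (hk _ hs) hL' with (h | h | h | h | h) | h
  · -- alternating groups
    obtain ⟨m, h5, h14, -, -, h14', ⟨e⟩⟩ := h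
    have e' := s.trans e
    rcases (show m ≤ 7 ∨ 8 ≤ m by omega) with hm | hm
    · exact (row_small c hL h5 hm e').elim
    · rcases row_alt c hm e' with ⟨rfl, h1, h2, h3⟩ | ⟨rfl, h1⟩
      · exact Or.inr (Or.inl ⟨⟨e'⟩, h1, h2, h3⟩)
      · exact Or.inr (Or.inr ⟨⟨e'⟩, h1⟩)
  · -- classical groups
    rcases h with ⟨q, hq, hpq, -, h⟩ | ⟨h3, -, h⟩ | ⟨h3, -, h⟩ | ⟨-, h1, -⟩ | ⟨-, h3, -, h⟩ | ⟨-, -, h⟩ |
        ⟨-, h1, -⟩ | ⟨-, -, h⟩ | ⟨-, -, h⟩
    · obtain ⟨K, iK, iKf, hK, ⟨e⟩⟩ := h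
      have hq5 : 5 ≤ Fintype.card K := by
        rw [hK]
        revert hq
        simp only [Finset.mem_insert, Finset.mem_singleton]
        omega
      have hq9 : Fintype.card K ≠ 9 := by
        rw [hK]
        revert hq
        simp only [Finset.mem_insert, Finset.mem_singleton]
        omega
      have h1 := H464.Sl2.l2_degrees p c.core hq5 hq9 (by rw [hK]; exact hpq) (s.trans e) (by rw [hn]; norm_num)
      rw [hK, hn] at h1
      rcases h1 with ⟨h1, h2⟩ | ⟨h1, h2⟩ | ⟨h1, h2⟩ | ⟨h1, h2⟩ | ⟨h1, h2⟩ | ⟨h1, h2⟩ | ⟨h1, h2⟩ | ⟨h1, h2⟩ | ⟨h1, h2⟩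
      · exact absurd h2 (by decide)
      · exact absurd h2 (by decide)
      · exact absurd h2 (by decide)
      · subst h1
        have hK0 : ((Fintype.card K : ℕ) : F) ≠ 0 := by
          rw [hK]
          intro h0
          rw [CharP.cast_eq_zero_iff F p] at h0
          exact hpq h0
        exact (Del.steinberg_kill c.two c.nd c.max c.res (by rw [hK]) (by rw [hK]; norm_num) hK0
          (by rw [hn, hK]) (s.trans e)).elim
      · exact absurd h2 (by decide)
      · exact absurd h2 (by decide)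
      · exact absurd h2 (by decide)
      · subst h1
        have hp23 : p ≠ 23 := fun h => hpq (by rw [h])
        exact ((H464.Sl2.l2_23_11 p c.core hK hp23 (s.trans e) hn).2.1 c.sd).elim
      · exact absurd h2 (by decide)
    · obtain ⟨K, iK, iKf, hK, ⟨e⟩⟩ := h
      obtain ⟨-, -, hFr, h1⟩ := H175.L33.l33 c.core p h3 hK (s.trans e) (by rw [hn]; norm_num)
      have h13 : p = 13 := by
        rcases h1 with h1 | h1
        · exact h1.2
        · omega
      obtain ⟨e2⟩ := H363.PslCard.psl_of_card (n := Fin 3) (F := K) (F' := ZMod 3) (by rw [hK, ZMod.card])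
      exact Or.inl ⟨⟨(s.trans e).trans e2⟩, by rw [c.core.card_eq p hFr, h13]⟩
    · obtain ⟨K, iK, iKf, hK, ⟨e⟩⟩ := h
      have := (H659.U3.u33_stage c.core p c.ne_two h3 (by rw [hn]; norm_num) (hK.trans (by norm_num)) (s.trans e)).2
      omega
    · omega
    · obtain ⟨K, iK, iKf, hK, ⟨e⟩⟩ := h
      have := H659.Sp4.u42_stage' c.core p c.ne_two h3 (by rw [hn]; norm_num) (hK.trans (by norm_num)) (s.trans e)
      omega
    · obtain ⟨K, iK, iKf, hK, ⟨e⟩⟩ := h
      rcases H36.U52.t6 g.core p c.ne_two (by norm_num) (hK.trans (by norm_num)) e with h1 | h1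
      · omega
      · exact (h1.2.2.1 g.sd).elim
    · omega
    · obtain ⟨K, iK, iKf, hK, ⟨e⟩⟩ := h
      have := H916.SpSix.spSix_dim (zero_one hK) c.core (s.trans e) c.two (by rw [hn]; norm_num)
      omega
    · obtain ⟨K, iK, iKf, hK, ⟨e⟩⟩ := h
      have := H916.Om.omega_dim (zero_one hK) c.core (s.trans e) c.two (by rw [hn]; norm_num)
      omega
  · -- exceptional multipliers
    rcases h with ⟨-, h1, -⟩ | ⟨-, h1, -⟩
    · omega
    · omega
  · -- `Sz(8)`
    have := (H814.Sz8.core_sz8 g.core c.two (by decide) h.2.2).1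
    rw [Fintype.card_fin] at this
    omega
  · -- sporadic groups
    have tr : ∀ {T : Type} [Group T], (Soc P' ≃* T) → (Soc P ≃* T) := fun e => s.trans e
    rcases g.spor h with h | h | h
    · by_cases h3 : p = 3
      · subst h3
        have := (H6.M11.m11_three g.core h (by decide)).1
        rw [Fintype.card_fin] at this
        omega
      · obtain ⟨e⟩ := h
        exact (Del.m11_kill c.two (c.three h3) c.nd hn c.max c.res ⟨s.trans e⟩).elim
    · obtain ⟨e⟩ := h
      by_cases h3 : p = 3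
      · subst h3
        have h3F : (3 : F) = 0 := by exact_mod_cast CharP.cast_eq_zero F 3
        exact (Sc.m12_eleven c.core h3F c.fixQ hn ⟨s.trans e⟩).elim
      · exact (Del.m12_kill c.two (c.three h3) c.nd hn c.max c.res ⟨s.trans e⟩).elim
    · obtain ⟨e⟩ := h
      exact (Sc.j1_eleven c.core c.two c.fixQ hn ⟨s.trans e⟩).elim
  · exact (c.ne_two h.1).elim

end Cfsg.Agent.H882.O11
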