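import Cfsg.Agent.H879.Nine.Types
import Cfsg.Agent.H882.Del.MKill
import Cfsg.Agent.H937.T2Nine
import Cfsg.Agent.H464.L2Num
import Cfsg.Agent.H882.Del.Stein

/-!
# `Ω₁₁(q)`: the setting of the residual class (helper882)
-/

set_option autoImplicit false
set_option linter.unusedSectionVars false

namespace Cfsg.Agent.H882.O11

open Matrix Cfsg Cfsg.Geo Cfsg.Agent.H915.LD Cfsg.Agent.LieClassical.OrthCore Cfsg.Agent.H936.List12

universe u v

variable {ι : Type} [Fintype ι] [DecidableEq ι] {F : Type u} [Field F]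

/-- The setting. -/
structure Ctx [Fintype F] (p : ℕ) (Q : QuadraticForm F (ι → F)) (H P : Subgroup (GL ι F)) : Prop where
  prime : p.Prime
  charP : CharP F p
  two : (2 : F) ≠ 0
  eleven : Fintype.card ι = 11
  nd : Nondeg Q
  max : IsMaximalIn (omegaGL (Q : (ι → F) → F)) H
  res : IsResidualCore H P

/-- rows for a copy `P` in `GL (Fin 11) F` : `P` perfect, absolutely irreducible, over no subfield, simple,
orthogonal -/
structure Gp [Fintype F] (p : ℕ) (P : Subgroup (GL (Fin 11) F)) : Prop where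
  prime : p.Prime
  charP : CharP F p
  ne_two : p ≠ 2
  two : (2 : F) ≠ 0
  core : Core P
  fixQ : FixQ P
  sd : SD P
  bot : (scalars (Fin 11) F).subgroupOf P = ⊥

namespace Ctx

variable [Fintype F] {p : ℕ} {Q : QuadraticForm F (ι → F)} {H P : Subgroup (GL ι F)} (c : Ctx p Q H P)
include c

theorem core : Core P := core_of_residual c.res

theorem ne_two : p ≠ 2 := by
  rintro rfl
  have := c.charP
  exact c.two (by exact_mod_cast CharP.cast_eq_zero F 2)

theorem fixQ : FixQ P := Del.fixQ_of_le c.nd (c.res.le.trans c.max.1.le)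

theorem sd : SD P := H879.Nine.sd_of_fixQ c.fixQ

theorem bot : (scalars ι F).subgroupOf P = ⊥ :=
  H879.TL.scalars_bot_of_odd c.core c.fixQ (by rw [c.eleven]; decide)

/-- `P` is simple -/
noncomputable def soc : P ≃* Soc P := H879.TL.socEquiv c.bot

theorem cop : ∃ P' : Subgroup (GL (Fin 11) F), Gp p P' ∧ Nonempty (Soc P ≃* Soc P') := by
  let e : ι ≃ Fin 11 := Fintype.equivFinOfCardEq c.eleven
  have hC := H879.Rx.core_rx e c.core
  have hQ := H879.Rx.fixQ_rx e c.fixQ
  exact ⟨H879.Rx.rx e P, ⟨c.prime, c.charP, c.ne_two, c.two, hC, hQ, H879.Nine.sd_of_fixQ hQ,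
    H879.TL.scalars_bot_of_odd hC hQ (by decide)⟩, ⟨H879.Rx.socEqv e P⟩⟩

end Ctx

end Cfsg.Agent.H882.O11
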